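import Groth.Agent.H20DimOne.Poly
import Groth.Agent.H19Grp.PointsEq
import Groth.Agent.H20Borel.FixGaGm
import Groth.Agent.H13AlgSp.EtaleLocally
import Mathlib

/-!
# Quotients of the additive group by finite subgroups
-/

set_option autoImplicit false
set_option linter.style.haveILetI false
set_option backward.isDefEq.respectTransparency false
set_option maxHeartbeats 800000

universe u

open CategoryTheory CategoryTheory.Limits MonoidalCategory CartesianMonoidalCategory MonObj AlgebraicGeometry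
open Groth.Agent.H27Witt H20Mu H20Borel

noncomputable section

namespace H20DimOne

variable {k : Type u} [Field k]

local notation "Ga" => Red.Ga (Sk k)

/-- The coordinate of a point of the additive group. -/
def gf {T : Over (Sk k)} (x : T ⟶ Ga) : Fn T := Red.gaFn x

theorem gf_comp {T T' : Over (Sk k)} (r : T' ⟶ T) (x : T ⟶ Ga) : gf (r ≫ x) = Fn.pull r (gf x) :=
  GaCoord.gaFn_comp r x

theorem gf_injective {T : Over (Sk k)} {x y : T ⟶ Ga} (h : gf x = gf y) : x = y := GaCoord.gaFn_injective h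

theorem gf_mul {T : Over (Sk k)} (x y : T ⟶ Ga) : gf (x * y) = gf x + gf y := GaCoord.gaFn_mul x y

theorem exists_gf {T : Over (Sk k)} (a : Fn T) : ∃ x : T ⟶ Ga, gf x = a := GaCoord.gaFn_surjective (X := T) a

/-- The additive group is the affine line. -/
theorem exists_isoLine : ∃ e : Pl k ≅ Ga, Fn.pull e.hom (gf (𝟙 Ga)) = sFn := by
  obtain ⟨u, hu⟩ := exists_gf (sFn : Fn (Pl k))
  obtain ⟨v, hv⟩ := exists_toLine (gf (𝟙 Ga))
  have hu' : Fn.pull u (gf (𝟙 Ga)) = sFn := by rw [← gf_comp, Category.comp_id, hu]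
  refine ⟨⟨u, v, ?_, ?_⟩, hu'⟩
  · refine toLine_ext ?_
    rw [← Fn.pull_pull, hv, hu', Fn.pull_id]
    rfl
  · refine gf_injective ?_
    rw [gf_comp, hu, hv]

theorem hasseDeriv_map {R S : Type u} [CommRing R] [CommRing S] (f : R →+* S) (j : ℕ) (P : Polynomial R) :
    Polynomial.hasseDeriv j (P.map f) = (Polynomial.hasseDeriv j P).map f := by
  ext n
  simp [Polynomial.hasseDeriv_coeff]

theorem pull_injective {X Y : Over (Sk k)} (f : X ⟶ Y) [AlgebraicGeometry.IsReduced Y.left] [Surjective f.left]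
    [QuasiCompact f.left] : Function.Injective (Fn.pull f) := by
  haveI : IsSchemeTheoreticallyDominant f.left := IsSchemeTheoreticallyDominant.of_isDominant _
  exact Scheme.Hom.app_injective f.left ⊤

/-- **A quotient of the additive group by a finite subgroup is the additive group.** -/
theorem nonempty_iso_Ga (H : Over (Sk k)) [GrpObj H] [IsAffine H.left] [Smooth H.hom]
    (f : Ga ⟶ H) [IsMonHom f] [IsFinite f.left] [Surjective f.left] :
    Nonempty (Grp.mk H ≅ Grp.mk Ga) := by
  classical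
  haveI : IsAffine (Pl k).left := inferInstanceAs (IsAffine (Spec _))
  obtain ⟨e, he⟩ := exists_isoLine (k := k)
  haveI : IsAffine (Red.Ga (Sk k)).left := by
    haveI : IsIso e.inv.left := inferInstanceAs (IsIso ((Over.forget _).map e.inv))
    exact IsAffine.of_isIso e.inv.left
  haveI hHred : AlgebraicGeometry.IsReduced H.left := Groth.Agent.H13AlgSp.isReduced_of_smooth_mor H.hom
  -- coordinates
  let κ : Fn Ga →ₐ[k] Polynomial k := (plEquiv (k := k)).symm.toAlgHom.comp (Fn.pull e.hom)
  let c : Fn Ga := gf (𝟙 Ga)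
  have hκc : κ c = Polynomial.X := by
    show (plEquiv (k := k)).symm (Fn.pull e.hom (gf (𝟙 Ga))) = _
    rw [he]
    exact (plEquiv (k := k)).symm_apply_apply _
  have hκinj : Function.Injective κ := (plEquiv (k := k)).symm.injective.comp fun a b h => by
    have := congrArg (Fn.pull e.inv) (show Fn.pull e.hom a = Fn.pull e.hom b from h)
    rwa [Fn.pull_pull, Fn.pull_pull, e.inv_hom_id, Fn.pull_id] at this
  have hκev : ∀ P : Polynomial k, κ (Polynomial.aeval c P) = P := fun P => by
    rw [← Polynomial.aeval_algHom_apply, hκc, Polynomial.aeval_X_left_apply]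
  have hcgen : ∀ a : Fn Ga, Polynomial.aeval c (κ a) = a := fun a => hκinj (hκev (κ a))
  let φ : Fn H →ₐ[k] Polynomial k := κ.comp (Fn.pull f)
  have hφ : Function.Injective φ := hκinj.comp (pull_injective f)
  -- the two universal points
  let T : Over (Sk k) := Over.mk (Spec.map (CommRingCat.ofHom (algebraMap k (Polynomial (Polynomial k)))))
  haveI : IsAffine T.left := inferInstanceAs (IsAffine (Spec _))
  let eT : Polynomial (Polynomial k) ≃ₐ[k] Fn T := Fn.specAlg (k := k) _
  obtain ⟨u, hu⟩ := exists_gf (eT (Polynomial.C Polynomial.X))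
  obtain ⟨v, hv⟩ := exists_gf (eT Polynomial.X)
  have hpt : ∀ (r : T ⟶ Ga) (a : Fn Ga), eT.symm (Fn.pull r a) = Polynomial.aeval (eT.symm (gf r)) (κ a) := by
    intro r a
    have h1 : gf r = Fn.pull r c := by rw [← gf_comp, Category.comp_id]
    rw [h1, Polynomial.aeval_algHom_apply, Polynomial.aeval_algHom_apply, hcgen]
  have hu0 : ∀ a : Fn Ga, eT.symm (Fn.pull u a) = Polynomial.C (κ a) := fun a => by
    rw [hpt, hu, AlgEquiv.symm_apply_apply,
      show (Polynomial.C Polynomial.X : Polynomial (Polynomial k)) = Polynomial.CAlgHom (R := k) Polynomial.X from rfl,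
      Polynomial.aeval_algHom_apply, Polynomial.aeval_X_left_apply]
    rfl
  have hv0 : ∀ a : Fn Ga, eT.symm (Fn.pull v a) = (κ a).map Polynomial.C := fun a => by
    rw [hpt, hv, AlgEquiv.symm_apply_apply]
    exact Polynomial.aeval_X_left_eq_map _
  have hadd : ∀ a : Fn Ga, eT.symm (Fn.pull (u * v) a) =
      Polynomial.taylor Polynomial.X ((κ a).map Polynomial.C) := fun a => by
    rw [hpt, gf_mul, map_add, hu, hv, AlgEquiv.symm_apply_apply, AlgEquiv.symm_apply_apply,
      Polynomial.taylor_apply, add_comm]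
    rw [Polynomial.comp, Polynomial.eval₂_map]
    rfl
  -- the image is closed under Hasse derivatives
  have hB : ∀ P ∈ φ.range, ∀ j, Polynomial.hasseDeriv j P ∈ φ.range := by
    rintro _ ⟨a, rfl⟩ j
    obtain ⟨n, b, d, hbd⟩ := Fn.exists_decomp (Fn.pull μ[H] a)
    let r : T ⟶ H ⊗ H := lift (u ≫ f) (v ≫ f)
    have hr : r ≫ μ[H] = (u * v) ≫ f := by rw [MonObj.mul_comp, Hom.mul_def]
    have h := congrArg (fun z => eT.symm (Fn.pull r z)) hbd
    simp only [Fn.pull_pull, hr, map_sum, map_mul, r, lift_fst, lift_snd] at h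
    simp only [← Fn.pull_pull (f := u), ← Fn.pull_pull (f := v), ← Fn.pull_pull (f := u * v), hu0, hv0, hadd] at h
    have hj := congrArg (fun Q : Polynomial (Polynomial k) => Q.coeff j) h
    simp only [Polynomial.finsetSum_coeff, Polynomial.coeff_C_mul, Polynomial.coeff_map, Polynomial.taylor_coeff] at hj
    show Polynomial.hasseDeriv j (φ a) ∈ φ.range
    rw [show Polynomial.hasseDeriv j (φ a) = ∑ i, φ (b i) * Polynomial.C ((φ (d i)).coeff j) from ?_]
    · exact Subalgebra.sum_mem _ fun i _ => Subalgebra.mul_mem _ ⟨b i, rfl⟩ (Subalgebra.algebraMap_mem _ _)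
    · refine Eq.trans ?_ hj
      show _ = Polynomial.eval Polynomial.X (Polynomial.hasseDeriv j ((κ (Fn.pull f a)).map Polynomial.C))
      rw [hasseDeriv_map, Polynomial.eval_map]
      exact Polynomial.eval₂_C_X.symm
  have hne : φ.range ≠ ⊥ := by
    intro h
    have hfin : (Fn.pull f : Fn H →ₐ[k] Fn Ga).toRingHom.Finite :=
      ((HasAffineProperty.iff_of_isAffine (P := @IsFinite)).mp ‹IsFinite f.left›).2
    haveI hk : Module.Finite k (Fn Ga) := by
      have hsurj : Function.Surjective (algebraMap k (Fn H)) := fun a => by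
        obtain ⟨r, hr⟩ := Algebra.mem_bot.mp (h.le ⟨a, rfl⟩ : φ a ∈ (⊥ : Subalgebra k (Polynomial k)))
        exact ⟨r, hφ ((AlgHom.commutes φ r).trans hr)⟩
      have h1 := hfin.comp (RingHom.Finite.of_surjective _ hsurj)
      rw [show (Fn.pull f : Fn H →ₐ[k] Fn Ga).toRingHom.comp (algebraMap k (Fn H)) = algebraMap k (Fn Ga) from
        (Fn.pull f).comp_algebraMap] at h1
      exact RingHom.finite_algebraMap.mp h1
    haveI : Module.Finite k (Polynomial k) := Module.Finite.of_surjective κ.toLinearMap fun P => ⟨_, hκev P⟩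
    exact Polynomial.not_finite (R := k) this
  obtain ⟨f₀, hf₀, hdeg, hev, hhasse, hgen⟩ := exists_additive_generator_of_hasse φ.range hB hne
  obtain ⟨w₀, rfl⟩ := hf₀
  simp only [AlgHom.toRingHom_eq_coe, RingHom.coe_coe] at hdeg hev hhasse hgen
  -- the isomorphism
  obtain ⟨w, hw⟩ := exists_gf w₀
  have hwc : Fn.pull w c = w₀ := by rw [← gf_comp, Category.comp_id, hw]
  have hwev : ∀ a, φ (Fn.pull w a) = Polynomial.aeval (φ w₀) (κ a) := fun a => by
    conv_lhs => rw [← hcgen a, ← Polynomial.aeval_algHom_apply, hwc, ← Polynomial.aeval_algHom_apply]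
  have hbij : Function.Bijective (Fn.pull w) := by
    refine ⟨fun a b hab => hκinj ?_, fun b => ?_⟩
    · have h := congrArg φ hab
      rw [hwev, hwev] at h
      rw [← sub_eq_zero]
      by_contra hne0
      have h' : (κ a - κ b).comp (φ w₀) = 0 := by
        rw [Polynomial.sub_comp, sub_eq_zero]
        exact h
      rcases Polynomial.comp_eq_zero_iff.mp h' with h0 | ⟨-, h0⟩
      · exact hne0 h0
      · rw [h0, Polynomial.natDegree_C] at hdeg
        exact lt_irrefl 0 hdeg
    · have hb : φ b ∈ Algebra.adjoin k {φ w₀} := hgen ▸ ⟨b, rfl⟩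
      rw [Algebra.adjoin_singleton_eq_range_aeval] at hb
      obtain ⟨P, hP⟩ := hb
      exact ⟨Polynomial.aeval c P, hφ (by rw [hwev, hκev]; exact hP)⟩
  obtain ⟨w', hw'⟩ := Fn.exists_hom (X := Ga) (Y := H)
    ((AlgEquiv.ofBijective (Fn.pull w) hbij).symm : Fn H →ₐ[k] Fn Ga)
  let i : H ≅ Ga :=
    { hom := w
      inv := w'
      hom_inv_id := Fn.hom_ext (AlgHom.ext fun a => by
        rw [← Fn.pull_pull, hw', Fn.pull_id]
        exact (AlgEquiv.ofBijective (Fn.pull w) hbij).apply_symm_apply a)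
      inv_hom_id := Fn.hom_ext (AlgHom.ext fun a => by
        rw [← Fn.pull_pull, hw', Fn.pull_id]
        exact (AlgEquiv.ofBijective (Fn.pull w) hbij).symm_apply_apply a) }
  -- homomorphism
  have hfw : ∀ {Z : Over (Sk k)} (p : Z ⟶ Ga), gf (p ≫ f ≫ w) = Polynomial.aeval (gf p) (φ w₀) := fun p => by
    rw [gf_comp, gf_comp, hw, show Polynomial.aeval (gf p) (φ w₀) = Fn.pull p (Polynomial.aeval c (φ w₀)) by
      rw [← Polynomial.aeval_algHom_apply, ← gf_comp, Category.comp_id]]
    exact congrArg (Fn.pull p) (hcgen (Fn.pull f w₀)).symm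
  have hadd0 : ∀ {R : Type u} [CommRing R] [Algebra k R] (x y : R), Polynomial.aeval (x + y) (φ w₀) =
      Polynomial.aeval x (φ w₀) + Polynomial.aeval y (φ w₀) := fun {R} _ _ x y => by
    have key : Polynomial.taylor Polynomial.X ((φ w₀).map Polynomial.C) =
        Polynomial.C (φ w₀) + (φ w₀).map Polynomial.C := by
      ext1 j
      rw [Polynomial.taylor_coeff, Polynomial.coeff_add, Polynomial.coeff_C, Polynomial.coeff_map,
        hasseDeriv_map, Polynomial.eval_map, Polynomial.eval₂_C_X]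
      rcases Nat.eq_zero_or_pos j with rfl | hj
      · rw [if_pos rfl, Polynomial.hasseDeriv_zero', Polynomial.coeff_zero_eq_eval_zero, hev, map_zero, add_zero]
      · rw [if_neg hj.ne', zero_add, hhasse j hj]
    have h := congrArg (Polynomial.eval₂ (Polynomial.aeval x : Polynomial k →ₐ[k] R).toRingHom y) key
    rw [Polynomial.taylor_apply, Polynomial.eval₂_comp, Polynomial.eval₂_add, Polynomial.eval₂_X, Polynomial.eval₂_C,
      Polynomial.eval₂_map, Polynomial.eval₂_add, Polynomial.eval₂_map, Polynomial.eval₂_C] at h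
    simp only [AlgHom.toRingHom_eq_coe, RingHom.coe_coe, Polynomial.aeval_X] at h
    rw [show ((Polynomial.aeval x : Polynomial k →ₐ[k] R) : Polynomial k →+* R).comp Polynomial.C = algebraMap k R from
      RingHom.ext fun r => Polynomial.aeval_C _ r] at h
    rw [add_comm x y]
    exact h
  haveI : Smooth (H ⊗ H).hom := Groth.Agent.H19Grp.PointsDense.smooth_tensor H H
  haveI : AlgebraicGeometry.IsReduced (H ⊗ H).left := Groth.Agent.H13AlgSp.isReduced_of_smooth_mor (H ⊗ H).hom
  haveI : IsAffine (H ⊗ H).left := inferInstanceAs (IsAffine (pullback H.hom H.hom))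
  haveI : IsAffine (Red.Ga (Sk k) ⊗ Red.Ga (Sk k)).left :=
    inferInstanceAs (IsAffine (pullback (Red.Ga (Sk k)).hom (Red.Ga (Sk k)).hom))
  haveI : Surjective (f ⊗ₘ f).left :=
    MorphismProperty.pullbackMap (P := @Surjective) (inferInstanceAs (Surjective f.left))
      (inferInstanceAs (Surjective f.left)) (Over.w f).symm (Over.w f).symm
  have hmul : μ[H] ≫ w = (w ⊗ₘ w) ≫ μ[Red.Ga (Sk k)] := by
    refine gf_injective (pull_injective (f ⊗ₘ f) ?_)
    rw [← gf_comp, ← gf_comp]
    have h1 : (f ⊗ₘ f) ≫ μ[H] ≫ w = (fst Ga Ga * snd Ga Ga) ≫ f ≫ w := by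
      rw [← Category.assoc, ← IsMonHom.mul_hom f, Hom.mul_def, lift_fst_snd, Category.id_comp, Category.assoc]
    have h2 : (f ⊗ₘ f) ≫ (w ⊗ₘ w) ≫ μ[Red.Ga (Sk k)] = (fst Ga Ga ≫ f ≫ w) * (snd Ga Ga ≫ f ≫ w) := by
      rw [tensorHom_comp_tensorHom_assoc, Hom.mul_def]
      congr 1
    rw [h1, h2, gf_mul, hfw, hfw, hfw, gf_mul]
    exact hadd0 _ _
  haveI : IsMonHom i.hom :=
    { one_hom := by
        rw [← IsMonHom.one_hom f, Category.assoc]
        refine gf_injective ?_
        rw [hfw, show gf (η[Red.Ga (Sk k)]) = 0 from ?_]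
        · rw [Polynomial.aeval_def, Polynomial.eval₂_at_zero, Polynomial.coeff_zero_eq_eval_zero, hev, map_zero]
        · have h0 := GaCoord.gaFn_one (S := Sk k) (X := 𝟙_ (Over (Sk k)))
          rwa [Hom.one_def, toUnit_unique (toUnit _) (𝟙 _), Category.id_comp] at h0
      mul_hom := hmul }
  exact ⟨Grp.mkIso' i⟩

end H20DimOne
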