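import Mathlib

/-!
# Translation stable subalgebras of `k[X]`
-/

set_option autoImplicit false

universe u

noncomputable section

open Polynomial

namespace H20DimOne

variable {k : Type u} [Field k]

theorem mem_of_forall_sum_pow [Infinite k] (S : Submodule k k[X]) (s : Finset ℕ) (v : ℕ → k[X])
    (h : ∀ c : k, ∑ j ∈ s, c ^ j • v j ∈ S) : ∀ j ∈ s, v j ∈ S := by
  intro j hj
  by_contra hne
  obtain ⟨φ, hφ, hφS⟩ := S.exists_dual_map_eq_bot_of_notMem hne inferInstance
  refine hφ ?_
  let P : k[X] := ∑ i ∈ s, C (φ (v i)) * X ^ i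
  have hP : P = 0 := Polynomial.funext fun c => by
    have h1 : φ (∑ i ∈ s, c ^ i • v i) = 0 := (Submodule.mem_bot k).1 (hφS ▸ Submodule.mem_map_of_mem (h c))
    simp only [map_sum, map_smul, smul_eq_mul] at h1
    simp only [P, eval_finsetSum, eval_mul, eval_C, eval_pow, eval_X, eval_zero]
    exact Eq.trans (Finset.sum_congr rfl fun i _ => mul_comm _ _) h1
  have := congrArg (fun q => coeff q j) hP
  simp only [P, finsetSum_coeff, coeff_C_mul_X_pow, Finset.sum_ite_eq, hj, if_true, coeff_zero] at this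
  exact this

theorem taylor_eq_sum (c : k) (a : k[X]) :
    taylor c a = ∑ j ∈ Finset.range (a.natDegree + 1), c ^ j • hasseDeriv j a := by
  ext i
  rw [taylor_coeff, finsetSum_coeff]
  have h1 : (hasseDeriv i a).eval c = ∑ j ∈ Finset.range (a.natDegree + 1), (hasseDeriv i a).coeff j * c ^ j :=
    eval_eq_sum_range' (Nat.lt_succ_of_le ((natDegree_hasseDeriv_le a i).trans (Nat.sub_le _ _))) c
  rw [h1]
  refine Finset.sum_congr rfl fun j _ => ?_
  rw [coeff_smul, smul_eq_mul, hasseDeriv_coeff, hasseDeriv_coeff, mul_comm _ (c ^ j), add_comm j i]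
  congr 2
  rw [← Nat.choose_symm_add, add_comm i j]

theorem natDegree_hasseDeriv {a : k[X]} {j : ℕ} (hj : j ≤ a.natDegree) (hc : (a.natDegree.choose j : k) ≠ 0) :
    (hasseDeriv j a).natDegree = a.natDegree - j := by
  by_cases ha : a = 0
  · subst ha; simp
  refine le_antisymm (natDegree_hasseDeriv_le a j) (le_natDegree_of_ne_zero ?_)
  rw [hasseDeriv_coeff, Nat.sub_add_cancel hj]
  refine mul_ne_zero hc ?_
  rw [coeff_natDegree, leadingCoeff_ne_zero]
  exact ha

/-- All intermediate binomial coefficients vanish only for powers of the exponential characteristic. -/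
theorem exists_eq_pow {q : ℕ} [hq : ExpChar k q] {n : ℕ} (hn : 0 < n)
    (h : ∀ j, 0 < j → j < n → (n.choose j : k) = 0) : ∃ e, n = q ^ e := by
  cases hq with
  | zero =>
    refine ⟨0, ?_⟩
    by_contra hne
    have h1 := h 1 one_pos (by simp at hne; omega)
    rw [Nat.choose_one_right, Nat.cast_eq_zero] at h1
    omega
  | prime hp =>
    haveI : Fact q.Prime := ⟨hp⟩
    haveI : CharP k q := by assumption
    obtain ⟨v, u, hu, rfl⟩ := Nat.exists_eq_pow_mul_and_not_dvd hn.ne' q hp.ne_one
    refine ⟨v, ?_⟩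
    by_contra hne
    have hu1 : 1 < u := by
      rcases Nat.lt_or_ge 1 u with h1 | h1
      · exact h1
      · interval_cases u <;> simp at hne hu ⊢
    have h1 := h (q ^ v) (pow_pos hp.pos v) (lt_mul_of_one_lt_right (pow_pos hp.pos v) hu1)
    have h2 : ((X + 1 : k[X]) ^ (q ^ v * u)) = expand k (q ^ v) ((X + 1) ^ u) := by
      rw [pow_mul, add_pow_char_pow, one_pow, map_pow, map_add, expand_X, map_one]
    have h3 := congrArg (fun r => coeff r (q ^ v * 1)) h2
    simp only [mul_one, coeff_X_add_one_pow] at h3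
    rw [h1] at h3
    conv_rhs at h3 => rw [show coeff (expand k (q ^ v) ((X + 1) ^ u)) (q ^ v) =
      coeff (expand k (q ^ v) ((X + 1) ^ u)) (q ^ v * 1) by rw [mul_one]]
    rw [coeff_expand_mul' (pow_pos hp.pos v), coeff_X_add_one_pow, Nat.choose_one_right] at h3
    exact hu ((CharP.cast_eq_zero_iff k q u).mp h3.symm)

/-- **A subalgebra of `k[X]` closed under Hasse derivatives is generated by an additive polynomial.** -/
theorem exists_additive_generator_of_hasse (B : Subalgebra k k[X])
    (hB : ∀ a ∈ B, ∀ j, hasseDeriv j a ∈ B) (hne : B ≠ ⊥) :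
    ∃ f ∈ B, 0 < f.natDegree ∧ f.eval 0 = 0 ∧ (∀ j, 0 < j → hasseDeriv j f = C (f.coeff j)) ∧
      B = Algebra.adjoin k {f} := by
  classical
  obtain ⟨q, _⟩ := ExpChar.exists k
  have hex : ∃ d, 0 < d ∧ ∃ f ∈ B, f.natDegree = d ∧ f.eval 0 = 0 := by
    by_contra hcon
    push Not at hcon
    refine hne (eq_bot_iff.mpr fun a ha => ?_)
    have h0 : (a - C (a.eval 0)).natDegree = 0 := by
      by_contra hd
      exact hcon _ (Nat.pos_of_ne_zero hd) _ (sub_mem ha (B.algebraMap_mem _)) rfl (by simp)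
    rw [natDegree_sub_C] at h0
    exact Algebra.mem_bot.mpr ⟨a.coeff 0, (eq_C_of_natDegree_eq_zero h0).symm⟩
  obtain ⟨hd0, f, hfB, hfd, hf0⟩ := Nat.find_spec hex
  set d := Nat.find hex with hd
  have hmin : ∀ a ∈ B, a.natDegree < d → a = C (a.eval 0) := by
    intro a ha hlt
    have h0 : (a - C (a.eval 0)).natDegree = 0 := by
      by_contra hd'
      have e : (a - C (a.eval 0)).natDegree = a.natDegree := natDegree_sub_C
      exact Nat.find_min hex hlt ⟨e ▸ Nat.pos_of_ne_zero hd', a - C (a.eval 0), sub_mem ha (B.algebraMap_mem _), e, by simp⟩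
    rw [natDegree_sub_C] at h0
    rw [eq_C_of_natDegree_eq_zero h0]
    simp
  have hdrop : ∀ (a : k[X]) (j : ℕ), 0 < j → 0 < a.natDegree → (hasseDeriv j a).natDegree < a.natDegree :=
    fun a j hj ha => (natDegree_hasseDeriv_le a j).trans_lt (Nat.sub_lt ha hj)
  have hconst : ∀ j, 0 < j → hasseDeriv j f = C (f.coeff j) := fun j hj => by
    have h := hmin _ (hB f hfB j) ((hdrop f j hj (hfd ▸ hd0)).trans_eq hfd)
    rw [h, ← coeff_zero_eq_eval_zero, hasseDeriv_coeff, zero_add, Nat.choose_self, Nat.cast_one, one_mul]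
  have hdq : ∃ m, d = q ^ m := by
    refine exists_eq_pow (k := k) hd0 fun j hj hjd => ?_
    by_contra hc
    have h2 := natDegree_hasseDeriv (a := f) (hfd ▸ hjd.le) (by rwa [hfd])
    rw [hconst j hj, natDegree_C, hfd] at h2
    omega
  refine ⟨f, hfB, hfd ▸ hd0, hf0, hconst, le_antisymm ?_ (Algebra.adjoin_le (by simpa using hfB))⟩
  suffices h : ∀ n, ∀ a ∈ B, a.natDegree = n → a ∈ Algebra.adjoin k {f} from fun a ha => h _ a ha rfl
  intro n
  induction n using Nat.strong_induction_on with
  | _ n ih =>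
    intro a ha han
    by_cases hnd : n < d
    · rw [hmin a ha (han ▸ hnd)]
      exact Subalgebra.algebraMap_mem _ _
    have hn0 : 0 < n := by omega
    have hdiv : ∀ b ∈ Algebra.adjoin k {f}, d ∣ b.natDegree := by
      intro b hb
      rw [Algebra.adjoin_singleton_eq_range_aeval] at hb
      obtain ⟨P, rfl⟩ := hb
      show d ∣ (aeval f P).natDegree
      rw [show aeval f P = P.comp f from rfl, natDegree_comp, hfd]
      exact dvd_mul_left d _
    have hD : ∀ j, 0 < j → hasseDeriv j a ∈ Algebra.adjoin k {f} := fun j hj =>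
      ih _ ((hdrop a j hj (han ▸ hn0)).trans_eq han) _ (hB a ha j) rfl
    have hdn : d ∣ n := by
      by_cases hall : ∀ j, 0 < j → j < n → (n.choose j : k) = 0
      · obtain ⟨e, he⟩ := exists_eq_pow (k := k) (q := q) hn0 hall
        obtain ⟨m, hm⟩ := hdq
        rw [hm, he]
        rcases le_or_gt m e with hle | hlt
        · exact pow_dvd_pow q hle
        · have h1 : q ^ e ≤ q ^ m := Nat.pow_le_pow_right (expChar_pos k q) hlt.le
          rw [hm, he] at hnd
          rw [show q ^ m = q ^ e by omega]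
      · push Not at hall
        obtain ⟨j, hj, hjn, hc⟩ := hall
        have h1 := hdiv _ (hD j hj)
        have h2 := hdiv _ (hD (n - j) (by omega))
        rw [natDegree_hasseDeriv (han ▸ hjn.le) (han ▸ hc), han] at h1
        rw [natDegree_hasseDeriv (by omega) (by rw [han, Nat.choose_symm hjn.le]; exact hc), han,
          Nat.sub_sub_self hjn.le] at h2
        simpa [Nat.sub_add_cancel hjn.le] using Nat.dvd_add h1 h2
    obtain ⟨t, ht⟩ := hdn
    have hf00 : f ≠ 0 := by rintro rfl; rw [natDegree_zero] at hfd; omega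
    let lc := a.leadingCoeff / f.leadingCoeff ^ t
    have hft : (lc • f ^ t) ∈ Algebra.adjoin k {f} :=
      Subalgebra.smul_mem _ (pow_mem (Algebra.self_mem_adjoin_singleton k f) t) _
    have hlow : (a - lc • f ^ t) = 0 ∨ (a - lc • f ^ t).natDegree < n := by
      by_cases h0 : a - lc • f ^ t = 0
      · exact Or.inl h0
      refine Or.inr (han ▸ natDegree_lt_natDegree h0 ?_)
      have ha0 : a ≠ 0 := by rintro rfl; rw [natDegree_zero] at han; omega
      have hlc : lc ≠ 0 := div_ne_zero (leadingCoeff_ne_zero.mpr ha0) (pow_ne_zero _ (leadingCoeff_ne_zero.mpr hf00))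
      refine degree_sub_lt_left ?_ ha0 ?_
      · rw [degree_eq_natDegree ha0, degree_eq_natDegree (smul_ne_zero hlc (pow_ne_zero _ hf00)), han,
          natDegree_smul _ hlc, natDegree_pow, hfd, ht, mul_comm]
      · rw [leadingCoeff, leadingCoeff, natDegree_smul _ hlc, natDegree_pow, coeff_smul, smul_eq_mul]
        rw [show (f ^ t).coeff (t * f.natDegree) = f.leadingCoeff ^ t by
          rw [← natDegree_pow, coeff_natDegree, leadingCoeff_pow]]
        rw [div_mul_cancel₀ _ (pow_ne_zero _ (leadingCoeff_ne_zero.mpr hf00))]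
        rfl
    rw [← sub_add_cancel a (lc • f ^ t)]
    refine add_mem ?_ hft
    rcases hlow with h0 | hlt
    · rw [h0]; exact zero_mem _
    · exact ih _ hlt _ (sub_mem ha (B.smul_mem (pow_mem hfB t) _)) rfl

/-- **A translation stable subalgebra of `k[X]` is generated by an additive polynomial.** -/
theorem exists_additive_generator [Infinite k] (B : Subalgebra k k[X])
    (hB : ∀ a ∈ B, ∀ c : k, taylor c a ∈ B) (hne : B ≠ ⊥) :
    ∃ f ∈ B, 0 < f.natDegree ∧ (∀ c, taylor c f = f + C (f.eval c)) ∧ B = Algebra.adjoin k {f} := by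
  have hB' : ∀ a ∈ B, ∀ j, hasseDeriv j a ∈ B := by
    intro a ha j
    by_cases hj : j ≤ a.natDegree
    · exact mem_of_forall_sum_pow B.toSubmodule (Finset.range (a.natDegree + 1)) (fun i => hasseDeriv i a)
        (fun c => by rw [← taylor_eq_sum]; exact hB a ha c) j (Finset.mem_range.mpr (Nat.lt_succ_of_le hj))
    · rw [hasseDeriv_eq_zero_of_lt_natDegree _ _ (not_le.mp hj)]
      exact zero_mem _
  obtain ⟨f, hfB, hd, hf0, hconst, heq⟩ := exists_additive_generator_of_hasse B hB' hne
  refine ⟨f, hfB, hd, fun c => ?_, heq⟩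
  rw [taylor_eq_sum, Finset.range_eq_Ico, Finset.sum_eq_sum_Ico_succ_bot (Nat.succ_pos _), pow_zero, one_smul,
    hasseDeriv_zero', eval_eq_sum_range, Finset.range_eq_Ico, Finset.sum_eq_sum_Ico_succ_bot (Nat.succ_pos _),
    pow_zero, _root_.mul_one, coeff_zero_eq_eval_zero, hf0]
  simp only [zero_add, map_sum]
  congr 1
  refine Finset.sum_congr rfl fun j hj => ?_
  rw [hconst j (Finset.mem_Ico.mp hj).1, smul_C, smul_eq_mul, mul_comm]

end H20DimOne
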